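import Mathlib
import Cfsg.Agent.Lib.Helper44.TwoMinusG
import Cfsg.Agent.Lib.Helper44.NegPairs
import Cfsg.Agent.Lib.Helper94.OPStmt

/-!
# MINUS ⊥ MINUS = PLUS (all characteristics), for S5974 / B1H (helper37)

`twomin_gen`: form-free.  `A ⊥ B` nondegenerate of even finrank for a quadratic form `Q` over a
finite field: `A` is of plus type, or `B` is, or `A ⊔ B` is (it contains a totally singular
subspace of half its finrank).  Port of `Cfsg.Agent.Lib.Helper44.TwoMinusG.main` (helper44).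

`main`: the statement for the standard plus form on `P d → F`.
-/

set_option autoImplicit false

namespace Cfsg.Agent.Lib.Helper37.HPTwoMin

open Module QuadraticMap
open Cfsg.Agent.Lib.Helper44.QSpace Cfsg.Agent.Lib.Helper44.QClass Cfsg.Agent.Lib.Helper44.QBasis
open Cfsg.Agent.Lib.Helper44.NegPairs
open Cfsg.Agent.Lib.Helper44.TwoMinusG (polar_negQ ts_span sub_cases)
open Cfsg.Agent.Lib.Helper94.OPStmt (P NDegP)

universe u v

section gen

variable {F : Type u} [Field F] {V : Type v} [AddCommGroup V] [Module F V]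

set_option maxHeartbeats 1600000 in
theorem twomin_gen [Fintype F] [FiniteDimensional F V] (Q : QuadraticForm F V)
    (A B : Submodule F V)
    (hA' : ∀ w ∈ A, w ≠ 0 → ∃ v ∈ A, polar Q w v ≠ 0)
    (hB0 : ∀ w ∈ B, w ≠ 0 → ∃ v ∈ B, polar Q w v ≠ 0)
    (hAB' : ∀ u ∈ A, ∀ v ∈ B, polar Q u v = 0)
    (hev : Even (finrank F A)) (hevB : Even (finrank F B)) :
    (∃ U : Submodule F V, U ≤ A ∧ (∀ u ∈ U, Q u = 0) ∧ 2 * finrank F U = finrank F A) ∨
    (∃ U : Submodule F V, U ≤ B ∧ (∀ u ∈ U, Q u = 0) ∧ 2 * finrank F U = finrank F B) ∨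
    (∃ U : Submodule F V, U ≤ A ⊔ B ∧ (∀ u ∈ U, Q u = 0) ∧
      2 * finrank F U = finrank F ↥(A ⊔ B)) := by
  classical
  have hBA' : ∀ u ∈ B, ∀ v ∈ A, polar Q u v = 0 := fun u hu v hv => by
    rw [polar_comm]
    exact hAB' v hv u hu
  have hinf : A ⊓ B = ⊥ := by
    rw [eq_bot_iff]
    rintro v ⟨hvA, hvB⟩
    rw [Submodule.mem_bot]
    by_contra hv
    obtain ⟨x, hx, hxv⟩ := hA' v hvA hv
    exact hxv (hBA' v hvB x hx)
  have hB' : ∀ w ∈ B, w ≠ 0 → ∃ v ∈ B, polar (-Q) w v ≠ 0 := by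
    intro w hw hw0
    obtain ⟨v, hv, hpv⟩ := hB0 w hw hw0
    refine ⟨v, hv, ?_⟩
    rw [polar_negQ, neg_ne_zero]
    exact hpv
  rcases sub_cases Q A hA' hev with ⟨U, hUA, hU0, hUf⟩ |
    ⟨k, eA, fA, xA, yA, ζ, hfA, heA, hfA', hxA, hyA, hHA, hEA, hoA⟩
  · left
    exact ⟨U, hUA, hU0, hUf⟩
  rcases sub_cases (-Q) B hB' hevB with ⟨U, hUB, hU0, hUf⟩ |
    ⟨k', eB, fB, xB, yB₀, ζB, hfB, heB, hfB', hxB, hyB₀, hHB, hEB₀, hoB₀⟩
  · right
    left
    refine ⟨U, hUB, ?_, hUf⟩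
    intro u hu
    have h := hU0 u hu
    rw [QuadraticMap.neg_apply, neg_eq_zero] at h
    exact h
  right
  right
  obtain ⟨α, β, hEB⟩ := Cfsg.Agent.Lib.Helper44.OTyp1.ell_change hEB₀ hEA.2.2.2
  obtain ⟨yB, hyBdef⟩ : ∃ yB : V, yB = α • xB + β • yB₀ := ⟨_, rfl⟩
  rw [← hyBdef] at hEB
  have hyB : yB ∈ B := by
    rw [hyBdef]
    exact B.add_mem (B.smul_mem α hxB) (B.smul_mem β hyB₀)
  have hoB : ∀ i, polar (-Q) (eB i) xB = 0 ∧ polar (-Q) (eB i) yB = 0 ∧
      polar (-Q) (fB i) xB = 0 ∧ polar (-Q) (fB i) yB = 0 := by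
    intro i
    obtain ⟨h1, h2, h3, h4⟩ := hoB₀ i
    refine ⟨h1, ?_, h3, ?_⟩
    · rw [hyBdef, polar_add_right, polar_smul_r, polar_smul_r, h1, h2]
      ring
    · rw [hyBdef, polar_add_right, polar_smul_r, polar_smul_r, h3, h4]
      ring
  obtain ⟨hxA1, hxyA, hyAζ, hζ⟩ := hEA
  obtain ⟨hxB1, hxyB, hyBζ, -⟩ := hEB
  have hxB1' : Q xB = -1 := by
    rw [QuadraticMap.neg_apply] at hxB1
    linear_combination -hxB1
  have hxyB' : polar Q xB yB = -1 := by
    rw [polar_negQ] at hxyB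
    linear_combination -hxyB
  have hyBζ' : Q yB = -ζ := by
    rw [QuadraticMap.neg_apply] at hyBζ
    linear_combination -hyBζ
  obtain ⟨u₁, hu₁⟩ : ∃ u₁ : V, u₁ = xA + xB := ⟨_, rfl⟩
  obtain ⟨u₂, hu₂⟩ : ∃ u₂ : V, u₂ = yA + yB := ⟨_, rfl⟩
  have hQu₁ : Q u₁ = 0 := by
    rw [hu₁, q_add, hxA1, hxB1', hAB' xA hxA xB hxB]
    ring
  have hQu₂ : Q u₂ = 0 := by
    rw [hu₂, q_add, hyAζ, hyBζ', hAB' yA hyA yB hyB]
    ring
  have hu₁u₂ : polar Q u₁ u₂ = 0 := by
    rw [hu₁, hu₂, polar_add_left, polar_add_right, polar_add_right, hxyA, hAB' xA hxA yB hyB,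
      hBA' xB hxB yA hyA, hxyB']
    ring
  have hr₁ : LinearIndependent F ![u₁, u₂] := by
    rw [LinearIndependent.pair_iff]
    intro s t hst
    have hliA := linearIndependent_ell (Q := Q) (x := xA) (y := yA) (ζ := ζ)
      ⟨hxA1, hxyA, hyAζ, hζ⟩
    rw [LinearIndependent.pair_iff] at hliA
    apply hliA s t
    have hmemA : s • xA + t • yA ∈ A := A.add_mem (A.smul_mem s hxA) (A.smul_mem t hyA)
    have hmemB : s • xB + t • yB ∈ B := B.add_mem (B.smul_mem s hxB) (B.smul_mem t hyB)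
    have heq : s • xA + t • yA = -(s • xB + t • yB) := by
      rw [hu₁, hu₂] at hst
      rw [eq_neg_iff_add_eq_zero, ← hst]
      simp only [smul_add]
      abel
    have hmem : s • xA + t • yA ∈ A ⊓ B := ⟨hmemA, by rw [heq]; exact B.neg_mem hmemB⟩
    rw [hinf, Submodule.mem_bot] at hmem
    exact hmem
  have hBu : ∀ w ∈ B, polar (-Q) w xB = 0 → polar (-Q) w yB = 0 →
      ∀ t : Fin 2, polar (-Q) w (![u₁, u₂] t) = 0 := by
    intro w hw h1 h2 t
    fin_cases t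
    · show polar (-Q) w u₁ = 0
      rw [hu₁, polar_add_right, h1, polar_negQ, hBA' w hw xA hxA]
      simp
    · show polar (-Q) w u₂ = 0
      rw [hu₂, polar_add_right, h2, polar_negQ, hBA' w hw yA hyA]
      simp
  have L₁ := linearIndependent_hyp hHB ![u₁, u₂] hr₁
    (fun i t => hBu (eB i) (heB i) (hoB i).1 (hoB i).2.1 t)
    (fun i t => hBu (fB i) (hfB' i) (hoB i).2.2.1 (hoB i).2.2.2 t)
  have hAu : ∀ w ∈ A, polar Q w xA = 0 → polar Q w yA = 0 →
      ∀ t : (Fin k' ⊕ Fin k') ⊕ Fin 2,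
        polar Q w (Sum.elim (Sum.elim eB fB) ![u₁, u₂] t) = 0 := by
    intro w hw h1 h2 t
    rcases t with (j | j) | t
    · exact hAB' w hw _ (heB j)
    · exact hAB' w hw _ (hfB' j)
    · fin_cases t
      · show polar Q w u₁ = 0
        rw [hu₁, polar_add_right, h1, hAB' w hw xB hxB, add_zero]
      · show polar Q w u₂ = 0
        rw [hu₂, polar_add_right, h2, hAB' w hw yB hyB, add_zero]
  have L₂ := linearIndependent_hyp hHA _ L₁
    (fun i t => hAu (eA i) (heA i) (hoA i).1 (hoA i).2.1 t)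
    (fun i t => hAu (fA i) (hfA' i) (hoA i).2.2.1 (hoA i).2.2.2 t)
  obtain ⟨g, hg⟩ : ∃ g : (Fin k ⊕ Fin k') ⊕ Fin 2 → (V),
      g = Sum.elim (Sum.elim eA eB) ![u₁, u₂] := ⟨_, rfl⟩
  have hgli : LinearIndependent F g := by
    have h := L₂.comp (fun t : (Fin k ⊕ Fin k') ⊕ Fin 2 =>
      (Sum.elim (Sum.elim (fun i => Sum.inl (Sum.inl i))
        (fun j => Sum.inr (Sum.inl (Sum.inl j)))) (fun t => Sum.inr (Sum.inr t)) t :
        (Fin k ⊕ Fin k) ⊕ ((Fin k' ⊕ Fin k') ⊕ Fin 2)))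
      (by
        rintro ((i | j) | t) ((i' | j') | t') h <;> simp_all)
    have hgeq : g = (Sum.elim (Sum.elim eA fA) (Sum.elim (Sum.elim eB fB) ![u₁, u₂])) ∘
        (fun t : (Fin k ⊕ Fin k') ⊕ Fin 2 =>
          (Sum.elim (Sum.elim (fun i => Sum.inl (Sum.inl i))
            (fun j => Sum.inr (Sum.inl (Sum.inl j)))) (fun t => Sum.inr (Sum.inr t)) t :
            (Fin k ⊕ Fin k) ⊕ ((Fin k' ⊕ Fin k') ⊕ Fin 2))) := by
      rw [hg]
      funext t
      rcases t with (i | j) | t <;> rfl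
    rw [hgeq]
    exact h
  have hTfin : finrank F (Submodule.span F (Set.range g)) = k + k' + 2 := by
    rw [finrank_span_eq_card hgli]
    simp only [Fintype.card_sum, Fintype.card_fin]
  have c1 : ∀ i (t : Fin 2), polar Q (eA i) (![u₁, u₂] t) = 0 := fun i t =>
    hAu (eA i) (heA i) (hoA i).1 (hoA i).2.1 (Sum.inr t)
  have c2 : ∀ i (t : Fin 2), polar Q (eB i) (![u₁, u₂] t) = 0 := fun i t => by
    have h := hBu (eB i) (heB i) (hoB i).1 (hoB i).2.1 t
    rw [polar_negQ, neg_eq_zero] at h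
    exact h
  have c3 : ∀ (t t' : Fin 2), polar Q (![u₁, u₂] t) (![u₁, u₂] t') = 0 := by
    intro t t'
    fin_cases t <;> fin_cases t'
    · show polar Q u₁ u₁ = 0
      rw [polar_self', hQu₁, mul_zero]
    · exact hu₁u₂
    · show polar Q u₂ u₁ = 0
      rw [polar_comm]
      exact hu₁u₂
    · show polar Q u₂ u₂ = 0
      rw [polar_self', hQu₂, mul_zero]
  have hgQ : ∀ i, Q (g i) = 0 := by
    rw [hg]
    rintro ((i | j) | t)
    · exact hHA.1 i
    · have h := hHB.1 j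
      rw [QuadraticMap.neg_apply, neg_eq_zero] at h
      exact h
    · fin_cases t
      · exact hQu₁
      · exact hQu₂
  have hgg : ∀ i j, polar Q (g i) (g j) = 0 := by
    rw [hg]
    rintro ((i | i) | t) ((j | j) | t')
    · exact hHA.2.2.2.1 i j
    · exact hAB' _ (heA i) _ (heB j)
    · exact c1 i t'
    · exact hBA' _ (heB i) _ (heA j)
    · have h := hHB.2.2.2.1 i j
      rw [polar_negQ, neg_eq_zero] at h
      exact h
    · exact c2 i t'
    · show polar Q (![u₁, u₂] t) (eA j) = 0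
      rw [polar_comm]
      exact c1 j t
    · show polar Q (![u₁, u₂] t) (eB j) = 0
      rw [polar_comm]
      exact c2 j t
    · exact c3 t t'
  refine ⟨Submodule.span F (Set.range g), ?_, ts_span Q g hgQ hgg, ?_⟩
  · rw [Submodule.span_le]
    rintro _ ⟨t, rfl⟩
    rw [hg]
    rcases t with (i | j) | t
    · exact Submodule.mem_sup_left (heA i)
    · exact Submodule.mem_sup_right (heB j)
    · fin_cases t
      · show u₁ ∈ A ⊔ B
        rw [hu₁]
        exact Submodule.add_mem _ (Submodule.mem_sup_left hxA) (Submodule.mem_sup_right hxB)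
      · show u₂ ∈ A ⊔ B
        rw [hu₂]
        exact Submodule.add_mem _ (Submodule.mem_sup_left hyA) (Submodule.mem_sup_right hyB)
  · rw [hTfin]
    have h := Submodule.finrank_sup_add_finrank_inf_eq A B
    rw [hinf, finrank_bot] at h
    omega

end gen

/-- MINUS ⊥ MINUS = PLUS for the standard plus form (all `q`). -/
theorem main : ∀ (F : Type u) [Field F] [Fintype F] (d : ℕ) (A B : Submodule F (P d → F)),
    NDegP d F A → NDegP d F B →
    (∀ u ∈ A, ∀ v ∈ B, QuadraticMap.polar (Cfsg.quadFormPlus d F) u v = 0) →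
    Even (Module.finrank F ↥A) → Even (Module.finrank F ↥B) →
    ¬ Cfsg.Geo.IsPlusTypeOn (Cfsg.quadFormPlus d F) A →
    ¬ Cfsg.Geo.IsPlusTypeOn (Cfsg.quadFormPlus d F) B →
    Cfsg.Geo.IsPlusTypeOn (Cfsg.quadFormPlus d F) (A ⊔ B) := by
  intro F _ _ d A B hA hB hAB hevA hevB hnA hnB
  have h := twomin_gen (plusQ d F) A B (fun w hw hw0 => (hA w hw hw0).2)
    (fun w hw hw0 => (hB w hw hw0).2) hAB hevA hevB
  rcases h with ⟨U, hU, hU0, hUf⟩ | ⟨U, hU, hU0, hUf⟩ | ⟨U, hU, hU0, hUf⟩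
  · exact absurd ⟨U, hU, hU0, hUf⟩ hnA
  · exact absurd ⟨U, hU, hU0, hUf⟩ hnB
  · exact ⟨U, hU, hU0, hUf⟩

end Cfsg.Agent.Lib.Helper37.HPTwoMin
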