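import Mathlib
import Cfsg.Agent.Lib.Helper93.HPB1Stmt
import Cfsg.Agent.Lib.Helper37.HPTwoMin

/-!
# S5974 / B1H-MM (sub-call by helper93): minus ⊥ minus = plus

Wrapper of `Cfsg.Agent.Lib.Helper37.HPTwoMin.main`.
-/

set_option autoImplicit false

universe u

namespace Cfsg.Agent.Lib.Helper37.HPB1MM

theorem main : Cfsg.Agent.Lib.Helper93.HPB1Stmt.MMH.{u} := by
  intro F _ _ d A B hA hB hAB hevA hevB hnA hnB
  exact Cfsg.Agent.Lib.Helper37.HPTwoMin.main F d A B hA hB hAB hevA hevB hnA hnB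

end Cfsg.Agent.Lib.Helper37.HPB1MM
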